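import Groth.Agent.EGA4Lib.JacFibre
import Groth.Agent.EGA4Lib.DerKernel

/-!
# Regularity of quotients by elements with unit derivatives
-/

set_option autoImplicit false

namespace Groth.Agent.DerReg

universe u

attribute [local instance 2000] Ring.toIntAlgebra

/-- If `D f` is a unit modulo `f` in a regular ring, then `R/(f)` is regular. -/
theorem isRegularRing_quotient_span_singleton {R : Type u} [CommRing R] [IsRegularRing R]
    (f : R) (D : Derivation ℤ R R) (hD : IsUnit (Ideal.Quotient.mk (Ideal.span {f}) (D f))) :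
    IsRegularRing (R ⧸ Ideal.span ({f} : Set R)) := by
  haveI : IsNoetherianRing (R ⧸ Ideal.span ({f} : Set R)) :=
    isNoetherianRing_of_surjective _ _ _ Ideal.Quotient.mk_surjective
  refine isRegularRing_iff.mpr fun Q hQ => ?_
  let P : Ideal R := Q.comap (Ideal.Quotient.mk (Ideal.span {f}))
  haveI : P.IsPrime := Ideal.IsPrime.comap _
  have hqP : Ideal.span ({f} : Set R) ≤ P := by
    rw [Ideal.span_le, Set.singleton_subset_iff]
    show Ideal.Quotient.mk _ f ∈ Q
    rw [Ideal.Quotient.eq_zero_iff_mem.mpr (Ideal.mem_span_singleton_self f)]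
    exact Q.zero_mem
  have hPQ : P.map (Ideal.Quotient.mk (Ideal.span ({f} : Set R))) = Q :=
    Ideal.map_comap_of_surjective _ Ideal.Quotient.mk_surjective Q
  haveI : (P.map (Ideal.Quotient.mk (Ideal.span ({f} : Set R)))).IsPrime := by rw [hPQ]; exact hQ
  haveI : IsRegularLocalRing (Localization.AtPrime P) :=
    IsRegularRing.isRegularLocalRing_localization P
  have h := EGA4Lib.Jac.isRegular_of_det (q := Ideal.span ({f} : Set R)) (p := P) hqP
    (fun _ : Fin 1 => D) (fun _ => f) (fun _ => Ideal.mem_span_singleton_self f)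
    (by rw [Ideal.map_span, Set.image_singleton, Set.range_const])
    (by
      rw [Matrix.det_unique, Matrix.of_apply]
      intro h
      have : Ideal.Quotient.mk (Ideal.span {f}) (D f) ∈ Q := h
      exact hQ.ne_top (Q.eq_top_of_isUnit_mem this hD))
  have main : ∀ (Q' : Ideal (R ⧸ Ideal.span ({f} : Set R))) (_ : Q'.IsPrime),
      P.map (Ideal.Quotient.mk (Ideal.span ({f} : Set R))) = Q' →
      IsRegularLocalRing (Localization.AtPrime Q') := by
    rintro _ _ rfl
    exact h
  exact main Q hQ hPQ

end Groth.Agent.DerReg
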