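import Groth.Agent.CAlg99.CotGen
import Mathlib

/-!
# Unit Jacobian determinants in regular local rings
-/

set_option autoImplicit false

open IsLocalRing

namespace Groth.Agent.DerReg

universe u

variable {R : Type u} [CommRing R] [IsRegularLocalRing R]

/-- Elements independent in `m/m²` form a regular sequence. -/
theorem isRegular_ofFn_of_indep {r : ℕ} (f : Fin r → maximalIdeal R)
    (hf : LinearIndependent (ResidueField R) (fun i => (maximalIdeal R).toCotangent (f i))) :
    RingTheory.Sequence.IsRegular R (List.ofFn fun i => (f i : R)) := by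
  classical
  rw [IsLocalRing.isRegular_iff_isWeaklyRegular_of_subset_maximalIdeal
    (fun x hx => by obtain ⟨i, rfl⟩ := List.mem_ofFn.mp hx; exact (f i).2)]
  refine ⟨fun i hi => ?_⟩
  simp only [List.length_ofFn] at hi
  let c : Fin i → Fin r := Fin.castLE hi.le
  set I : Ideal R := Ideal.ofList ((List.ofFn fun i => (f i : R)).take i) with hI
  have hI' : I = Ideal.span (Set.range fun j => (f (c j) : R)) := by
    rw [hI, Ideal.ofList]
    congr 1
    ext z
    simp only [List.mem_take_iff_getElem, List.getElem_ofFn, List.length_ofFn, Set.mem_range]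
    constructor
    · rintro ⟨j, hj, rfl⟩
      exact ⟨⟨j, (lt_min_iff.mp hj).1⟩, rfl⟩
    · rintro ⟨j, rfl⟩
      exact ⟨j, lt_min j.2 (j.2.trans_le hi.le), rfl⟩
  clear_value I
  subst hI'
  haveI := CAlg99.CotGen.isRegularLocalRing_quotient_of_indep (fun j => f (c j))
    (hf.comp c (Fin.castLE_injective _))
  have hp := (Ideal.Quotient.isDomain_iff_prime
    (Ideal.span (Set.range fun j => (f (c j) : R)))).mp (RegLoc.isDomain _)
  have hxi : (f ⟨i, hi⟩ : R) ∉ Ideal.span (Set.range fun j => (f (c j) : R)) := by
    intro hmem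
    obtain ⟨a, ha⟩ := (Submodule.mem_span_range_iff_exists_fun R).mp hmem
    have h1 : (maximalIdeal R).toCotangent (f ⟨i, hi⟩) ∈ Submodule.span (ResidueField R)
        ((fun j => (maximalIdeal R).toCotangent (f j)) '' Set.range c) := by
      have : f ⟨i, hi⟩ = ∑ j, a j • f (c j) := Subtype.ext (by simp [← ha])
      rw [this, map_sum]
      refine Submodule.sum_mem _ fun j _ => ?_
      rw [map_smul, ← algebraMap_smul (ResidueField R) (a j)]
      exact Submodule.smul_mem _ _ (Submodule.subset_span ⟨c j, ⟨j, rfl⟩, rfl⟩)
    have h2 := hf.notMem_span_image (s := Set.range c) (x := ⟨i, hi⟩) (by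
      rintro ⟨j, hj⟩
      exact absurd (congrArg Fin.val hj) (Nat.ne_of_lt j.2))
    exact h2 h1
  simp only [List.getElem_ofFn]
  have hIs : (Ideal.span (Set.range fun j => (f (c j) : R)) • ⊤ : Submodule R R) =
      Ideal.span (Set.range fun j => (f (c j) : R)) := Ideal.mul_top _
  rw [hIs]
  intro a b hab
  induction a using Submodule.Quotient.induction_on with | _ a => ?_
  induction b using Submodule.Quotient.induction_on with | _ b => ?_
  simp only [← Submodule.Quotient.mk_smul, Submodule.Quotient.eq] at hab ⊢
  rw [← smul_sub, smul_eq_mul] at hab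
  exact (hp.mem_or_mem hab).resolve_left hxi

/-- A unit Jacobian determinant gives independence in `m/m²`. -/
theorem indep_of_isUnit_det {m : ℕ} (f : Fin m → maximalIdeal R) (D : Fin m → Derivation ℤ R R)
    (hdet : IsUnit (Matrix.det (Matrix.of fun i j : Fin m => D i (f j : R)))) :
    LinearIndependent (ResidueField R) (fun i => (maximalIdeal R).toCotangent (f i)) := by
  rw [Fintype.linearIndependent_iff]
  intro g hg
  choose c hc using fun j => residue_surjective (g j)
  have h0 : (maximalIdeal R).toCotangent (∑ j, c j • f j) = 0 := by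
    rw [← hg, map_sum]
    refine Finset.sum_congr rfl fun j _ => ?_
    rw [map_smul, ← hc j]
    exact (algebraMap_smul (ResidueField R) (c j) _).symm
  rw [Ideal.toCotangent_eq_zero] at h0
  have hD : ∀ (E : Derivation ℤ R R) (x : R), x ∈ maximalIdeal R ^ 2 → E x ∈ maximalIdeal R := by
    intro E x hx
    rw [pow_two] at hx
    refine Submodule.mul_induction_on hx (fun y hy z hz => ?_) fun y z hy hz => ?_
    · rw [E.leibniz]
      exact add_mem (Ideal.mul_mem_right _ _ hy) (Ideal.mul_mem_right _ _ hz)
    · rw [map_add]; exact add_mem hy hz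
  have hsys : ∀ i, ∑ j, residue R (D i (f j : R)) * g j = 0 := by
    intro i
    have h := (residue_eq_zero_iff _).mpr (hD (D i) _ h0)
    have hf0 : ∀ j, residue R (f j : R) = 0 := fun j => (residue_eq_zero_iff _).mpr (f j).2
    simp only [Submodule.coe_sum, Submodule.coe_smul, smul_eq_mul, map_sum, Derivation.leibniz,
      map_add, map_mul, hf0, zero_mul, add_zero] at h
    rw [← h]
    refine Finset.sum_congr rfl fun j _ => ?_
    rw [← hc j]; ring
  have hdet' : ((Matrix.of fun i j : Fin m => D i (f j : R)).map (residue R)).det ≠ 0 := by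
    rw [← RingHom.mapMatrix_apply, ← RingHom.map_det]
    exact (hdet.map _).ne_zero
  have hv := Matrix.eq_zero_of_mulVec_eq_zero hdet' (v := g) (funext fun i => by
    simpa [Matrix.mulVec, dotProduct] using hsys i)
  exact fun i => congrFun hv i

end Groth.Agent.DerReg
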